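import Cfsg.Agent.H4.Asch.LineImage
import Cfsg.Agent.H73.Asch.Line
import Cfsg.Agent.H14.Asch.RankOne
import Mathlib.GroupTheory.Nilpotent

/-!
The lines of rank two of the strong embedding criterion: the data of the rank-one group induced on
the fixed points of a bad involution, pulled back through the central kernel of odd order.
-/

set_option autoImplicit false
set_option linter.style.haveILetI false

namespace Cfsg.Agent.H4.Asch

open Subgroup MulAction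
open Cfsg.Agent.H39
open Cfsg.Agent.H73.Bender
open Cfsg.Agent.H14.Asch Cfsg.Agent.H73.Asch
open scoped commutatorElement

universe u v

variable {G : Type u} [Group G] {Ω : Type v} [MulAction G Ω] {D : Set G}

theorem eq_one_of_pow_two_pow {A : Type*} [Group A] {g : A} (hodd : Odd (orderOf g)) {n : ℕ}
    (hn : g ^ 2 ^ n = 1) : g = 1 :=
  orderOf_eq_one_iff.mp (Nat.eq_one_of_dvd_coprimes (hodd.coprime_two_right.pow_right n) dvd_rfl
    (orderOf_dvd_of_pow_eq_one hn))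

/-- An element whose image has `2`-power order, modulo a kernel of odd order, has the same image as
a `2`-element of the group it generates. -/
theorem exists_two_lift {A B : Type*} [Group A] [Group B] {f : A →* B} (hker : Odd (Nat.card f.ker))
    {g : A} {n : ℕ} (hn : f g ^ 2 ^ n = 1) : ∃ j : ℕ, f (g ^ j) = f g ∧ (g ^ j) ^ 2 ^ n = 1 := by
  set r := Nat.card f.ker
  obtain ⟨j, -, hj⟩ := Nat.exists_mul_mod_eq_one_of_coprime
    (hker.coprime_two_right.pow_right (n + 1)) (Nat.one_lt_two_pow (by omega))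
  refine ⟨r * j, ?_, ?_⟩
  · rw [map_pow]
    conv_rhs => rw [← pow_one (f g)]
    refine pow_eq_pow_iff_modEq.mpr (Nat.ModEq.of_dvd (orderOf_dvd_of_pow_eq_one hn) ?_)
    have h1 : r * j ≡ 1 [MOD 2 ^ (n + 1)] := by
      rw [Nat.ModEq, hj, Nat.one_mod_eq_one.mpr (Nat.one_lt_two_pow (by omega)).ne']
    exact h1.of_dvd (pow_dvd_pow 2 (Nat.le_succ n))
  · rw [← pow_mul, show r * j * 2 ^ n = 2 ^ n * r * j by ring, pow_mul, pow_mul]
    have hmem : g ^ 2 ^ n ∈ f.ker := by rw [MonoidHom.mem_ker, map_pow, hn]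
    have h1 : (g ^ 2 ^ n) ^ r = 1 := congrArg Subtype.val (pow_card_eq_one' (x := (⟨_, hmem⟩ : f.ker)))
    rw [h1, one_pow]

/-- The `2`-elements of the line at `x`. -/
def IsLineTwo (D : Set G) (u : G) (x : Ω) (g : G) : Prop :=
  g ∈ lineGroup D u ∧ g • x = x ∧ ∃ n : ℕ, g ^ 2 ^ n = 1

/-- The data of the line at `x`, with the torus of the further point `y`. -/
structure LineAt (D : Set G) (u : G) (x y : Ω) (E Q : Subgroup G) : Prop where
  mem_E : ∀ g : G, g ∈ E ↔ g = 1 ∨ g ∈ commSwap D u x x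
  mem_Q : ∀ g : G, g ∈ Q ↔ IsLineTwo D u x g
  four_le : 4 ≤ Nat.card E
  E_le : E ≤ Q
  central : ∀ e ∈ E, ∀ g ∈ Q, Commute e g
  omega : ∀ g ∈ Q, orderOf g = 2 → g ∈ E
  sq_mem : ∀ g ∈ Q, g * g ∈ E
  comm_mem : ∀ g ∈ Q, ∀ k ∈ Q, ⁅g, k⁆ ∈ E
  trans : ∀ y z : Ω, u • y = y → u • z = z → y ≠ x → z ≠ x → ∃ g ∈ Q, g • y = z
  free : ∀ g ∈ Q, ∀ y : Ω, u • y = y → y ≠ x → g • y = y → g = 1
  card_cases : Nat.card Q = Nat.card E ∨ Nat.card Q = Nat.card E ^ 2 ∨
    Nat.card Q = Nat.card E ^ 3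
  card_four : Nat.card E = 4 → Nat.card Q ≠ 16
  torus : ∃ K : Subgroup G,
    K ≤ lineGroup D u ⊓ pairCore G x y ∧ IsCyclic K ∧ Nat.card K + 1 = Nat.card E ∧
    (∀ a ∈ E, ∀ b ∈ E, a ≠ 1 → b ≠ 1 → ∃ k ∈ K, k * a * k⁻¹ = b) ∧
    ∀ k ∈ K, k ≠ 1 → ∀ g ∈ Q, Commute k g → g = 1

variable [Finite G] [Finite Ω]

omit [Finite Ω] in
/-- The kernel of a line of rank two centralises it. -/
theorem kernel_commute (h : Crit G Ω D) (hPC : PointCommute Ω D) {u : G} {x y : Ω}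
    (hbad : RankTwoBad Ω D u) (hxy : x ≠ y) (hx : u • x = x) (hy : u • y = y) {k : G}
    (hk : k ∈ kernel (lineGroup D u) (fixedBy Ω u)) {g : G} (hg : g ∈ lineGroup D u) :
    Commute g k := by
  have hS := h.line hbad.1 hxy hx hy
  obtain ⟨hkL, hkfix⟩ := mem_kernel.mp hk
  refine mem_centralizer_singleton_iff.mp ((closure_le _).mpr (fun d hd => ?_) hg :
    g ∈ centralizer ({k} : Set G))
  obtain ⟨hdD, hdu'⟩ := hd
  have hdu : Commute d u := mem_centralizer_singleton_iff.mp hdu'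
  obtain ⟨z, hz, -⟩ := h.unique hdD
  have huz : u • z = z := h.fix_of_commute hdD hdu.symm hz
  have hku := commute_of_mem_lineGroup hkL
  have hd' : k * d * k⁻¹ ∈ commSwap D u z z := by
    refine ⟨h.conj_mem hdD k, (hku.mul_left hdu).mul_left hku.inv_left, ?_⟩
    have hkz : k • z = z := hkfix z huz
    rw [mul_smul, mul_smul, inv_smul_eq_iff.mpr hkz.symm, hz, hkz]
  have hc := hPC u z hbad huz _ hd' d ⟨hdD, hdu, hz⟩
  have hdk : d * k⁻¹ * d⁻¹ ∈ kernel (lineGroup D u) (fixedBy Ω u) := mem_kernel.mpr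
    ⟨conj_mem_of_mem (mem_lineGroup hdD hdu) (inv_mem hkL), fun w hw => by
      have hw' : d⁻¹ • w ∈ fixedBy Ω u :=
        hS.smul_mem (inv_mem (mem_lineGroup hdD hdu)) hw
      rw [mul_smul, mul_smul, inv_smul_eq_iff.mpr (hkfix _ hw').symm, smul_inv_smul]⟩
  have hsq : (k * d * k⁻¹ * d⁻¹) ^ 2 ^ 1 = 1 := by
    rw [pow_one, (hc.inv_right).mul_pow, inv_pow, sq, sq,
      show k * d * k⁻¹ * (k * d * k⁻¹) = k * (d * d) * k⁻¹ by group,
      mul_self_of_orderOf_eq_two (h.inv hdD)]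
    group
  have hmem : k * d * k⁻¹ * d⁻¹ ∈ kernel (lineGroup D u) (fixedBy Ω u) := by
    rw [show k * d * k⁻¹ * d⁻¹ = k * (d * k⁻¹ * d⁻¹) by group]
    exact mul_mem hk hdk
  have h1 := eq_one_of_pow_two_pow
    (hS.odd_kernel.of_dvd_nat (Subgroup.orderOf_dvd_natCard _ hmem)) hsq
  exact mem_centralizer_singleton_iff.mpr (mul_inv_eq_iff_eq_mul.mp (mul_inv_eq_one.mp h1)).symm

omit [Finite Ω] [Finite G] in
/-- Conjugation by an element centralising `u` preserves the line of `u`. -/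
theorem conj_mem_lineGroup (h : Crit G Ω D) {u g k : G} (hg : Commute g u)
    (hk : k ∈ lineGroup D u) : g * k * g⁻¹ ∈ lineGroup D u := by
  induction hk using Subgroup.closure_induction with
  | mem d hd =>
    exact mem_lineGroup (h.conj_mem hd.1 g)
      ((hg.mul_left (mem_centralizer_singleton_iff.mp hd.2)).mul_left hg.inv_left)
  | one => simp
  | mul a b _ _ ha hb =>
    rw [show g * (a * b) * g⁻¹ = g * a * g⁻¹ * (g * b * g⁻¹) by group]
    exact mul_mem ha hb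
  | inv a _ ha =>
    rw [show g * a⁻¹ * g⁻¹ = (g * a * g⁻¹)⁻¹ by group]
    exact inv_mem ha

omit [Finite Ω] [Finite G] in
/-- A line of rank two has a four-group. -/
theorem rankTwo_lineGroup (h : Crit G Ω D) {u : G} (hbad : RankTwoBad Ω D u) :
    RankTwo (lineGroup D u) := by
  obtain ⟨-, -, a, ha, b, hb, hab, hc, hau, hbu⟩ := hbad
  exact ⟨a, mem_lineGroup ha hau, b, mem_lineGroup hb hbu, h.inv ha, h.inv hb, hab, hc⟩

/-- The data of the line at one point, with the torus of a second point. -/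
theorem exists_lineAt (h : Crit G Ω D) (hPC : PointCommute Ω D) {u : G} {x y : Ω}
    (hbad : RankTwoBad Ω D u) (hxy : x ≠ y) (hx : u • x = x) (hy : u • y = y) :
    ∃ E Q : Subgroup G, LineAt D u x y E Q := by
  classical
  haveI : Fact (Nat.Prime 2) := ⟨Nat.prime_two⟩
  set L := lineGroup D u with hL
  set C := fixedBy Ω u with hC
  have hS : SE L C := h.line hbad.1 hxy hx hy
  set a : C := ⟨x, hx⟩
  set b : C := ⟨y, hy⟩
  obtain ⟨t, Qi, Ei, ht2, htab, hsetup, hQi, hd, hstab⟩ := exists_setup (se_image hS)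
    (rankTwo_image hS (rankTwo_lineGroup h hbad)) (faithful_image hS)
    (a := a) (b := b) (fun e => hxy (congrArg Subtype.val e))
  set π : L →* Image hS := (cPerm hS).rangeRestrict with hπ
  have hπsurj : Function.Surjective π := (cPerm hS).rangeRestrict_surjective
  have hπsmul : ∀ (g : L) (z : C), ((π g • z : C) : Ω) = (g : G) • z.1 := fun g z => rfl
  have hπfix : ∀ (g : L) (z : C), π g • z = z ↔ (g : G) • z.1 = z.1 := fun g z => by
    rw [Subtype.ext_iff, hπsmul]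
  have hker : ∀ g : L, π g = 1 ↔ (g : G) ∈ kernel L C := fun g => by
    rw [← cPerm_eq_one_iff hS, Subtype.ext_iff]
    rfl
  have hkercard : Odd (Nat.card π.ker) := by
    refine hS.odd_kernel.of_dvd_nat (Subgroup.card_dvd_of_injective
      ((L.subtype.comp π.ker.subtype).codRestrict (kernel L C) fun g => (hker _).mp g.2)
      fun g g' e => Subtype.ext (Subtype.ext (congrArg (fun z : kernel L C => (z : G)) e)))
  have hkc : ∀ k : L, π k = 1 → k ∈ Subgroup.center L := fun k hk =>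
    Subgroup.mem_center_iff.mpr fun g =>
      Subtype.ext (kernel_commute h hPC hbad hxy hx hy ((hker k).mp hk) g.2).eq
  -- the preimage of the kernel of the image is nilpotent
  set P : Subgroup L := Qi.comap π with hP
  haveI : Group.IsNilpotent P := by
    haveI : Group.IsNilpotent Qi := hQi.isNilpotent
    refine Subgroup.isNilpotent_of_ker_le_center (π.subgroupComap Qi) (fun k hk => ?_)
    refine Subgroup.mem_center_iff.mpr fun g => Subtype.ext ?_
    exact Subgroup.mem_center_iff.mp (hkc k (congrArg Subtype.val (MonoidHom.mem_ker.mp hk))) g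
  obtain ⟨S⟩ : Nonempty (Sylow 2 P) := inferInstance
  haveI hSn : (S : Subgroup P).Normal :=
    S.normal_of_normalizerCondition Group.normalizerCondition_of_isNilpotent
  set Q : Subgroup G := ((S : Subgroup P).map P.subtype).map L.subtype with hQ
  have hmemQ : ∀ g : G, g ∈ Q ↔ IsLineTwo D u x g := by
    intro g
    constructor
    · rintro ⟨l, ⟨p, hp, rfl⟩, rfl⟩
      refine ⟨(p : L).2, (hπfix _ a).mp (hsetup.le p.2), ?_⟩
      obtain ⟨n, hn⟩ := S.isPGroup' ⟨p, hp⟩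
      exact ⟨n, congrArg (fun z : (S : Subgroup P) => (((z : P) : L) : G)) hn⟩
    · rintro ⟨hgL, hgx, n, hn⟩
      have hp : π ⟨g, hgL⟩ ∈ Qi := hstab _ ((hπfix ⟨g, hgL⟩ a).mpr hgx) ⟨n, by
        rw [← map_pow, show (⟨g, hgL⟩ : L) ^ 2 ^ n = 1 from Subtype.ext hn, map_one]⟩
      set p : P := ⟨⟨g, hgL⟩, hp⟩
      have hz : IsPGroup 2 (zpowers p) := by
        refine IsPGroup.of_card (n := (Nat.log 2 (orderOf p))) ?_
        obtain ⟨i, -, hi⟩ := (Nat.dvd_prime_pow Nat.prime_two).mp (orderOf_dvd_of_pow_eq_one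
          (show p ^ 2 ^ n = 1 from Subtype.ext (Subtype.ext hn)))
        rw [Nat.card_zpowers, hi, Nat.log_pow (by norm_num)]
      obtain ⟨S', hS'⟩ := hz.exists_le_sylow
      haveI := Sylow.unique_of_normal S hSn
      refine ⟨⟨g, hgL⟩, ⟨p, ?_, rfl⟩, rfl⟩
      rw [Subsingleton.elim S S']
      exact hS' (mem_zpowers p)
  have hQL : ∀ {g : G}, g ∈ Q → g ∈ L := fun {g} hg => ((hmemQ g).mp hg).1
  let f : Q →* Image hS := π.comp (Subgroup.inclusion (show Q ≤ L from fun g hg => hQL hg))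
  have hf : ∀ g : Q, f g = π ⟨g, hQL g.2⟩ := fun g => rfl
  have hfinj : Function.Injective f := by
    rw [injective_iff_map_eq_one]
    intro g hg
    obtain ⟨n, hn⟩ := ((hmemQ g).mp g.2).2.2
    exact Subtype.ext (eq_one_of_pow_two_pow (hS.odd_kernel.of_dvd_nat
      (Subgroup.orderOf_dvd_natCard _ ((hker _).mp hg))) hn)
  have hfQ : ∀ g : Q, f g ∈ Qi := fun g => hstab _ ((hπfix _ a).mpr ((hmemQ g).mp g.2).2.1) (by
    obtain ⟨n, hn⟩ := ((hmemQ g).mp g.2).2.2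
    exact ⟨n, by rw [← map_pow, show g ^ 2 ^ n = 1 from Subtype.ext hn, map_one]⟩)
  have hfsurj : ∀ q ∈ Qi, ∃ g : Q, f g = q := by
    intro q hq
    obtain ⟨l, rfl⟩ := hπsurj q
    obtain ⟨n, hn⟩ := hQi ⟨π l, hq⟩
    obtain ⟨j, hj, hjn⟩ := exists_two_lift hkercard (f := π) (g := l)
      (n := n) (congrArg Subtype.val hn)
    exact ⟨⟨_, (hmemQ _).mpr ⟨(l ^ j).2, (hπfix (l ^ j) a).mp (hj.symm ▸ hsetup.le hq),
      n, congrArg Subtype.val hjn⟩⟩, hj⟩
  set E : Subgroup G := (Ei.comap f).map Q.subtype with hE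
  have hmemEQ : ∀ g : G, g ∈ E ↔ g ∈ Q ∧ g * g = 1 := by
    intro g
    constructor
    · rintro ⟨q, hq, rfl⟩
      refine ⟨q.2, congrArg Subtype.val (hfinj (a₁ := q * q) (a₂ := 1) ?_)⟩
      rw [map_mul, map_one]
      exact ((hd.mem_E _).mp hq).2
    · rintro ⟨hg, hg2⟩
      refine ⟨⟨g, hg⟩, (hd.mem_E _).mpr ⟨hsetup.le (hfQ _), ?_⟩, rfl⟩
      rw [← map_mul, show (⟨g, hg⟩ * ⟨g, hg⟩ : Q) = 1 from Subtype.ext hg2, map_one]
  have hmemE : ∀ g : G, g ∈ E ↔ g = 1 ∨ g ∈ commSwap D u x x := by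
    intro g
    rw [hmemEQ, hmemQ]
    constructor
    · rintro ⟨⟨hgL, hgx, -⟩, hg2⟩
      refine (eq_or_ne g 1).imp_right fun hne => ?_
      exact ⟨h.mem_of_mem_lineGroup hbad.1 hxy hx hy (orderOf_eq_two_of_mul_self hg2 hne) hgL,
        commute_of_mem_lineGroup hgL, hgx⟩
    · rintro (rfl | ⟨hgD, hgu, hgx⟩)
      · exact ⟨⟨one_mem L, one_smul G x, 0, by simp⟩, one_mul 1⟩
      · exact ⟨⟨mem_lineGroup hgD hgu, hgx, 1, by
          rw [pow_one, sq, mul_self_of_orderOf_eq_two (h.inv hgD)]⟩,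
          mul_self_of_orderOf_eq_two (h.inv hgD)⟩
  have hcardQ : Nat.card Q = Nat.card Qi :=
    Nat.card_congr (Equiv.ofBijective (fun g : Q => (⟨f g, hfQ g⟩ : Qi))
      ⟨fun g g' e => hfinj (congrArg Subtype.val e), fun q => by
        obtain ⟨g, hg⟩ := hfsurj q q.2
        exact ⟨g, Subtype.ext hg⟩⟩)
  have hcardE : Nat.card E = Nat.card Ei := by
    rw [hE, Subgroup.card_map_of_injective Q.subtype_injective]
    refine Nat.card_congr (Equiv.ofBijective (fun g : Ei.comap f => (⟨f g.1, g.2⟩ : Ei))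
      ⟨fun g g' e => Subtype.ext (hfinj (congrArg Subtype.val e)), fun q => ?_⟩)
    obtain ⟨g, hg⟩ := hfsurj q (hd.E_le q.2)
    exact ⟨⟨g, show f g ∈ Ei from hg.symm ▸ q.2⟩, Subtype.ext hg⟩
  have hmapE : ∀ (g : G) (hg : g ∈ Q), g ∈ E ↔ f ⟨g, hg⟩ ∈ Ei := fun g hg =>
    ⟨fun ⟨q, hq, e⟩ => by rwa [show q = ⟨g, hg⟩ from Subtype.ext e] at hq,
      fun h' => ⟨⟨g, hg⟩, h', rfl⟩⟩
  have hEQ : E ≤ Q := fun g hg => ((hmemEQ g).mp hg).1
  -- the torus: the inverted part of the preimage of the inverted elements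
  obtain ⟨Ki, hKi, hKcyc, hKcard, hKtrans, hKfpf⟩ := hd.torus
  obtain ⟨w₀, hw₀, hwt₀⟩ := exists_inv_lift hS t.2 ((Subgroup.orderOf_coe t).trans ht2)
  have hwt : π w₀ = t := Subtype.ext hwt₀
  set w : G := (w₀ : G) with hw
  have hw2 : orderOf w = 2 := (Subgroup.orderOf_coe w₀).trans hw₀
  have hwx : w • x = y := by
    have := congrArg Subtype.val ((congrArg (fun z => z • a) hwt).trans htab)
    rwa [hπsmul] at this
  have hwD : w ∈ D := h.mem_of_mem_lineGroup hbad.1 hxy hx hy hw2 w₀.2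
  set M : Subgroup L := Ki.comap π with hM
  have hMcomm : ∀ g ∈ M, ∀ g' ∈ M, g * g' = g' * g := by
    intro g hg g' hg'
    haveI := hKcyc
    exact congrArg Subtype.val ((MonoidHom.isMulCommutative_of_isCyclic_of_ker_le_center
      (π.subgroupComap Ki)
      (fun k hk => Subgroup.mem_center_iff.mpr fun z => Subtype.ext
        (Subgroup.mem_center_iff.mp (hkc k (congrArg Subtype.val (MonoidHom.mem_ker.mp hk))) z))
      ).is_comm.comm ⟨g, hg⟩ ⟨g', hg'⟩)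
  let K : Subgroup L :=
    { carrier := {g | g ∈ M ∧ w₀ * g * w₀⁻¹ = g⁻¹}
      one_mem' := ⟨one_mem M, by group⟩
      mul_mem' := fun {g g'} hg hg' => ⟨mul_mem hg.1 hg'.1, by
        rw [show w₀ * (g * g') * w₀⁻¹ = w₀ * g * w₀⁻¹ * (w₀ * g' * w₀⁻¹) by group, hg.2, hg'.2,
          ← mul_inv_rev, hMcomm g hg.1 g' hg'.1]⟩
      inv_mem' := fun {g} hg => ⟨inv_mem hg.1, by
        rw [show w₀ * g⁻¹ * w₀⁻¹ = (w₀ * g * w₀⁻¹)⁻¹ by group, hg.2]⟩ }
  have hKmem : ∀ g : L, g ∈ K ↔ π g ∈ Ki ∧ w₀ * g * w₀⁻¹ = g⁻¹ := fun g => Iff.rfl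
  let ψ : K →* Image hS := π.comp K.subtype
  have hψinj : Function.Injective ψ := by
    rw [injective_iff_map_eq_one]
    intro g hg
    have hg' : π (g : L) = 1 := hg
    have hc : w₀ * (g : L) * w₀⁻¹ = g := mul_inv_eq_iff_eq_mul.mpr
      (Subgroup.mem_center_iff.mp (hkc _ hg') w₀)
    have h1 : (g : L) * g = 1 := eq_inv_iff_mul_eq_one.mp (hc.symm.trans g.2.2)
    refine Subtype.ext (Subtype.ext (eq_one_of_pow_two_pow (n := 1) (hS.odd_kernel.of_dvd_nat
      (Subgroup.orderOf_dvd_natCard _ ((hker _).mp hg'))) ?_))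
    rw [pow_one, sq]
    exact congrArg Subtype.val h1
  have hψrange : ψ.range = Ki := by
    refine le_antisymm ?_ fun k hk => ?_
    · rintro _ ⟨g, rfl⟩
      exact g.2.1
    obtain ⟨g, rfl⟩ := hπsurj k
    set c := g * (w₀ * g * w₀⁻¹) with hc
    have hc1 : π c = 1 := by
      rw [hc, map_mul, map_mul, map_mul, map_inv, hwt, (hKi _ hk).2.2, mul_inv_cancel]
    obtain ⟨j, hj⟩ := hkercard
    have hcpow : c ^ (2 * j + 1) = 1 := by
      rw [← hj]
      exact congrArg Subtype.val (pow_card_eq_one' (x := (⟨c, hc1⟩ : π.ker)))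
    have hcc : ∀ z : L, z * c = c * z := Subgroup.mem_center_iff.mp (hkc c hc1)
    -- `g * c ^ j` is inverted
    have hg1 : π (g * c ^ j) = π g := by rw [map_mul, map_pow, hc1, one_pow, mul_one]
    refine ⟨⟨g * c ^ j, (hKmem _).mpr ⟨hg1.symm ▸ hk, ?_⟩⟩, hg1⟩
    have hcw : w₀ * c ^ j * w₀⁻¹ = c ^ j :=
      mul_inv_eq_iff_eq_mul.mpr (Commute.pow_right (hcc w₀) j)
    rw [show w₀ * (g * c ^ j) * w₀⁻¹ = w₀ * g * w₀⁻¹ * (w₀ * c ^ j * w₀⁻¹) by group, hcw]
    refine eq_inv_of_mul_eq_one_right ?_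
    calc g * c ^ j * (w₀ * g * w₀⁻¹ * c ^ j) = g * (c ^ j * (w₀ * g * w₀⁻¹)) * c ^ j := by group
      _ = g * (w₀ * g * w₀⁻¹ * c ^ j) * c ^ j := by
        rw [(Commute.pow_right (hcc (w₀ * g * w₀⁻¹)) j).eq]
      _ = c * c ^ j * c ^ j := by rw [hc]; group
      _ = 1 := by rw [← pow_succ', ← pow_add, show j + 1 + j = 2 * j + 1 by ring, hcpow]
  set KG : Subgroup G := K.map L.subtype with hKG
  have hKcard' : Nat.card KG = Nat.card Ki := by
    rw [hKG, Subgroup.card_map_of_injective L.subtype_injective, ← hψrange]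
    exact Nat.card_congr (MonoidHom.ofInjective hψinj).toEquiv
  have hKfix : ∀ g : L, g ∈ K → (g : G) • x = x ∧ (g : G) • y = y := fun g hg =>
    ⟨(hπfix g a).mp (hKi _ hg.1).1, (hπfix g b).mp (by
      have := (hKi _ hg.1).2.1
      rwa [htab] at this)⟩
  refine ⟨E, Q, hmemE, hmemQ, hcardE ▸ hd.four_le, hEQ, fun e he g hg => ?_,
    fun g hg hg2 => (hmemEQ g).mpr ⟨hg, mul_self_of_orderOf_eq_two hg2⟩, fun g hg => ?_,
    fun g hg k hk => ?_, fun y' z hy' hz hy'x hzx => ?_, fun g hg y' hy' hy'x hgy => ?_,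
    by rw [hcardQ, hcardE]; exact hd.card_cases, by rw [hcardQ, hcardE]; exact hd.card_four,
    KG, ?_, ?_, by rw [hKcard', hcardE, hKcard], ?_, ?_⟩
  · exact congrArg Subtype.val (hfinj (a₁ := ⟨e, hEQ he⟩ * ⟨g, hg⟩) (a₂ := ⟨g, hg⟩ * ⟨e, hEQ he⟩)
      (by
        rw [map_mul, map_mul]
        exact hd.central _ ((hmapE e (hEQ he)).mp he) _ (hfQ _)))
  · refine (hmapE _ (mul_mem hg hg)).mpr ?_
    exact (map_mul f ⟨g, hg⟩ ⟨g, hg⟩).symm ▸ hd.sq_mem _ (hfQ _)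
  · have hck : ⁅g, k⁆ ∈ Q := by
      rw [commutatorElement_def]
      exact mul_mem (mul_mem (mul_mem hg hk) (inv_mem hg)) (inv_mem hk)
    refine (hmapE _ hck).mpr ?_
    exact (map_commutatorElement f (⟨g, hg⟩ : Q) ⟨k, hk⟩).symm ▸ hd.comm_mem _ (hfQ _) _ (hfQ _)
  · obtain ⟨q, hq, -⟩ := H38.Q_regular hsetup (b := ⟨y', hy'⟩) (c := ⟨z, hz⟩)
      (fun e => hy'x (congrArg Subtype.val e)) (fun e => hzx (congrArg Subtype.val e))
    obtain ⟨g, hg⟩ := hfsurj q q.2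
    exact ⟨g, g.2, congrArg Subtype.val ((congrArg (fun s => s • (⟨y', hy'⟩ : C)) hg).trans hq)⟩
  · refine congrArg Subtype.val (hfinj (a₁ := ⟨g, hg⟩) (a₂ := 1) ?_)
    rw [map_one]
    by_contra hne
    exact hy'x (congrArg Subtype.val (H38.Q_fix_only hsetup (hfQ _) hne
      (c := ⟨y', hy'⟩) ((hπfix _ _).mpr hgy)))
  · rintro _ ⟨g, hg, rfl⟩
    obtain ⟨hgx, hgy⟩ := hKfix g hg
    have hodd : Odd (orderOf (g : G)) :=
      (hS.odd_pair (show x ∈ C from hx) (show y ∈ C from hy) hxy).of_dvd_nat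
        (Subgroup.orderOf_dvd_natCard _ (mem_pair.mpr ⟨g.2, hgx, hgy⟩))
    have hsw : w ∈ swappers D x y := ⟨hwD, hwx⟩
    have h2 := h.commutator_mem_pairCore hxy hsw (show (g : G) ∈ edgeStab G x y from Or.inl ⟨hgx, hgy⟩)
    have hwg : w * (g : G) * w⁻¹ = (g : G)⁻¹ := congrArg Subtype.val hg.2
    rw [hwg, ← mul_inv_rev, inv_mem_iff] at h2
    obtain ⟨j, hj⟩ := hodd
    refine ⟨g.2, ?_⟩
    have hgg : (g : G) = ((g : G) * g) ^ (j + 1) := by
      rw [← sq, ← pow_mul, show 2 * (j + 1) = (2 * j + 1) + 1 by ring, pow_succ, ← hj,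
        pow_orderOf_eq_one, one_mul]
    show (g : G) ∈ pairCore G x y
    rw [hgg]
    exact pow_mem h2 _
  · haveI := hKcyc
    haveI : IsCyclic ψ.range := hψrange.symm ▸ hKcyc
    exact isCyclic_of_surjective
      ((MonoidHom.ofInjective hψinj).symm.trans (Subgroup.equivMapOfInjective K _
        L.subtype_injective)).toMonoidHom
      (MulEquiv.surjective _)
  · intro c hc c' hc' hc1 hc1'
    obtain ⟨k, hk, hkc⟩ := hKtrans _ ((hmapE c (hEQ hc)).mp hc) _ ((hmapE c' (hEQ hc')).mp hc')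
      (fun e => hc1 (congrArg Subtype.val (hfinj (e.trans (map_one f).symm))))
      (fun e => hc1' (congrArg Subtype.val (hfinj (e.trans (map_one f).symm))))
    obtain ⟨g, rfl⟩ : k ∈ ψ.range := hψrange.symm ▸ hk
    refine ⟨_, ⟨g.1, g.2, rfl⟩, ?_⟩
    have hmem : (g.1 : G) * c * (g.1 : G)⁻¹ ∈ Q := by
      refine (hmemQ _).mpr ⟨mul_mem (mul_mem g.1.2 (hQL (hEQ hc))) (inv_mem g.1.2), ?_, 1, ?_⟩
      · rw [mul_smul, mul_smul, inv_smul_eq_iff.mpr (hKfix g.1 g.2).1.symm,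
          ((hmemQ c).mp (hEQ hc)).2.1, (hKfix g.1 g.2).1]
      · rw [pow_one, sq, show (g.1 : G) * c * (g.1 : G)⁻¹ * ((g.1 : G) * c * (g.1 : G)⁻¹) =
          (g.1 : G) * (c * c) * (g.1 : G)⁻¹ by group, ((hmemEQ c).mp hc).2]
        group
    refine congrArg Subtype.val (hfinj (a₁ := ⟨_, hmem⟩) (a₂ := ⟨c', hEQ hc'⟩) ?_)
    rw [← hkc, hf, hf]
    have e1 : π (g.1 * ⟨c, hQL (hEQ hc)⟩ * g.1⁻¹) = ψ g * π ⟨c, hQL (hEQ hc)⟩ * (ψ g)⁻¹ := by
      simp only [map_mul, map_inv]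
      rfl
    exact e1
  · rintro _ ⟨k, hk, rfl⟩ hk1 g hg hc
    refine congrArg Subtype.val (hfinj (a₁ := ⟨g, hg⟩) (a₂ := 1) ?_)
    rw [map_one]
    refine hKfpf (π k) hk.1 (fun e => hk1 ?_) _ (hfQ _) ?_
    · exact congrArg (fun z : K => ((z : L) : G)) (hψinj (a₁ := ⟨k, hk⟩) (a₂ := 1)
        (e.trans (map_one ψ).symm))
    · exact (show Commute k ⟨g, hQL hg⟩ from Subtype.ext hc.eq).map π

/-- Every line of rank two has its data. -/
theorem hasLines_of_pointCommute (h : Crit G Ω D) (hPC : PointCommute Ω D) : HasLines Ω D := by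
  intro u x hbad hx
  obtain ⟨y, hxy, hy⟩ : ∃ y, x ≠ y ∧ u • y = y := by
    obtain ⟨-, ⟨p, q, hpq, hp, hq⟩, -⟩ := hbad
    by_cases hxp : x = p
    · exact ⟨q, hxp ▸ hpq, hq⟩
    · exact ⟨p, hxp, hp⟩
  obtain ⟨E, Q, hd⟩ := exists_lineAt h hPC hbad hxy hx hy
  refine ⟨E, Q, ⟨hbad, hx, hd.mem_E, hd.four_le, hd.E_le, fun g hg => ?_, fun g => ?_, hd.central,
    hd.omega, hd.sq_mem, hd.comm_mem, hd.trans, hd.free, fun g hgu hgx k hk => ?_, hd.card_cases,
    hd.card_four, fun z hz hzx => ?_, fun g hg hfix d hdD hdu => ?_⟩⟩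
  · exact ⟨((hd.mem_Q g).mp hg).1, ((hd.mem_Q g).mp hg).2.1⟩
  · obtain ⟨n, hn⟩ := ((hd.mem_Q g).mp g.2).2.2
    exact ⟨n, Subtype.ext hn⟩
  · obtain ⟨hkL, hkx, n, hn⟩ := (hd.mem_Q k).mp hk
    refine (hd.mem_Q _).mpr ⟨conj_mem_lineGroup h hgu hkL, ?_, n, ?_⟩
    · rw [mul_smul, mul_smul, inv_smul_eq_iff.mpr hgx.symm, hkx, hgx]
    · rw [conj_pow, hn, mul_one, mul_inv_cancel]
  · obtain ⟨E', Q', hd'⟩ := exists_lineAt h hPC hbad (Ne.symm hzx) hx hz
    obtain rfl : E' = E := SetLike.ext fun g => (hd'.mem_E g).trans (hd.mem_E g).symm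
    obtain rfl : Q' = Q := SetLike.ext fun g => (hd'.mem_Q g).trans (hd.mem_Q g).symm
    exact hd'.torus
  · exact kernel_commute h hPC hbad hxy hx hy (mem_kernel.mpr ⟨hg, hfix⟩) (mem_lineGroup hdD hdu)

omit [Finite Ω] in
/-- The line hypothesis of the rank-one theorem. -/
theorem lineComm_of_pointCommute (h : Crit G Ω D) (hPC : PointCommute Ω D) : LineComm Ω D := by
  intro t ht2 hbad d hd e he hdt het hgrp
  by_cases hde : d = e
  · exact hde ▸ Commute.refl d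
  obtain ⟨x, y, hxy, hx, hy⟩ := hbad
  obtain ⟨p, hp, -⟩ := h.unique hd
  obtain ⟨q, hq, -⟩ := h.unique he
  have hpgrp : ∃ n : ℕ, orderOf (e * d) = 2 ^ n := by
    obtain ⟨n, hn⟩ := hgrp ⟨e * d, mul_mem (subset_closure (Set.mem_insert_of_mem _ rfl))
      (subset_closure (Set.mem_insert d _))⟩
    obtain ⟨i, -, hi⟩ := (Nat.dvd_prime_pow Nat.prime_two).mp
      (orderOf_dvd_of_pow_eq_one (congrArg Subtype.val hn))
    exact ⟨i, hi⟩
  have hne : e * d ≠ 1 := fun h1 => hde (by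
    rw [eq_inv_of_mul_eq_one_left h1, inv_eq_of_orderOf_eq_two (h.inv hd)])
  obtain ⟨n, hn⟩ := hpgrp
  obtain ⟨n, rfl⟩ := Nat.exists_eq_succ_of_ne_zero (show n ≠ 0 by
    rintro rfl
    exact hne (orderOf_eq_one_iff.mp (by simpa using hn)))
  have heven : Even (orderOf (e * d)) := hn ▸ (even_two.pow_of_ne_zero (Nat.succ_ne_zero n))
  obtain rfl : p = q := by
    by_contra hpq
    exact Nat.not_even_iff_odd.mpr (h.odd_orderOf_mul hd he hp hq hpq) heven
  obtain ⟨v, hv2, hvz, hvd, hve⟩ := exists_central_involution (h.inv hd) (h.inv he) heven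
  have hvL : v ∈ lineGroup D t :=
    zpowers_le.mpr (mul_mem (mem_lineGroup he het) (mem_lineGroup hd hdt)) hvz
  have hvD : v ∈ D := h.mem_of_mem_lineGroup ht2 hxy hx hy hv2 hvL
  have hvt : Commute v t := commute_of_mem_lineGroup hvL
  have hbad2 : RankTwoBad Ω D t := by
    refine ⟨ht2, ⟨x, y, hxy, hx, hy⟩, ?_⟩
    by_cases hvd' : v = d
    · exact ⟨v, hvD, e, he, fun h1 => hde (hvd'.symm.trans h1), hve, hvt, het⟩
    · exact ⟨v, hvD, d, hd, hvd', hvd, hvt, hdt⟩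
  exact hPC t p hbad2 (h.fix_of_commute hd hdt.symm hp) d ⟨hd, hdt, hp⟩ e ⟨he, het, hq⟩

end Cfsg.Agent.H4.Asch
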