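import Cfsg.Agent.H4.Asch.RankOneData
import Cfsg.Agent.H73.Bender.Transfer
import Cfsg.Agent.Bridge.Bender

/-!
The rank-one set-up of a faithful strongly embedded action of rank two, and its data.
-/

set_option autoImplicit false
set_option linter.style.haveILetI false

namespace Cfsg.Agent.H4.Asch

open Subgroup MulAction
open Cfsg.Agent.H39
open Cfsg.Agent.H73.Bender

universe u

variable {G : Type u} [Group G] {Ω : Type u} [MulAction G Ω] [Finite Ω] {S : Subgroup G}

/-- A faithful strongly embedded action of rank two of `S` on `Ω` gives a rank-one set-up with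
`2`-group kernel, with the data, and every `2`-element of a point stabiliser lies in the kernel. -/
theorem exists_setup [Finite G] (hS : SE S (Set.univ : Set Ω)) (hr : RankTwo S)
    (hF : Faithful S (Set.univ : Set Ω)) {a b : Ω} (hab : a ≠ b) :
    ∃ (t : S) (Q E : Subgroup S), orderOf t = 2 ∧ t • a = b ∧
      Cfsg.IsRankOneSetup S Ω a t Q ∧ IsPGroup 2 Q ∧ RankOneData a t Q E ∧
      ∀ g : S, g • a = a → (∃ n : ℕ, g ^ 2 ^ n = 1) → g ∈ Q := by
  classical
  obtain ⟨T, hT⟩ := Bridge.exists_regularTwo Bridge.coreFreeAll Bridge.nonCommStep hS hr hF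
    (Set.mem_univ a)
  obtain ⟨w, hw, hw2, hwa⟩ := hS.exists_swap (Set.mem_univ a) (Set.mem_univ b) hab
  set t : S := ⟨w, hw⟩ with ht
  have ht2 : orderOf t = 2 := (Subgroup.orderOf_mk w hw).trans hw2
  have hta : t • a = b := hwa
  have hTS : T ≤ S := hT.le.trans inf_le_left
  set Q : Subgroup S := T.subgroupOf S with hQ
  have hstab : ∀ g : S, g ∈ stabilizer S a ↔ (g : G) ∈ ptStab S a := fun g =>
    ⟨fun h => mem_ptStab.mpr ⟨g.2, h⟩, fun h => (mem_ptStab.mp h).2⟩
  haveI : FaithfulSMul S Ω := ⟨fun {g g'} h => by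
    have hk : ((g⁻¹ * g' : S) : G) ∈ kernel S (Set.univ : Set Ω) := mem_kernel.mpr
      ⟨(g⁻¹ * g').2, fun z _ => by
        show (g⁻¹ * g') • z = z
        rw [mul_smul, ← h z, inv_smul_smul]⟩
    rw [show kernel S (Set.univ : Set Ω) = ⊥ from hF, Subgroup.mem_bot] at hk
    exact inv_mul_eq_one.mp (Subtype.ext hk)⟩
  have htwo : IsMultiplyPretransitive S Ω 2 := by
    rw [is_two_pretransitive_iff]
    have key : ∀ {x y : Ω}, x ≠ y → ∃ g : S, g • x = a ∧ g • y = b := by
      intro x y hxy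
      obtain ⟨g, hg, hgx⟩ := hS.trans (Set.mem_univ x) (Set.mem_univ a)
      have hy : g • y ≠ a := fun e => hxy (MulAction.injective g (hgx.trans e.symm))
      obtain ⟨k, hk, hky⟩ := hT.trans _ (Set.mem_univ _) hy _ (Set.mem_univ b) hab.symm
      refine ⟨⟨k * g, mul_mem (hTS hk) hg⟩, ?_, (mul_smul k g y).trans hky⟩
      show (k * g) • x = a
      rw [mul_smul, hgx, (mem_ptStab.mp (hT.le hk)).2]
    intro x y x' y' h h'
    obtain ⟨g, hg1, hg2⟩ := key h
    obtain ⟨g', hg1', hg2'⟩ := key h'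
    exact ⟨g'⁻¹ * g, by rw [mul_smul, hg1, ← hg1', inv_smul_smul],
      by rw [mul_smul, hg2, ← hg2', inv_smul_smul]⟩
  have hQ2 : IsPGroup 2 Q :=
    hT.isPGroup.of_equiv (subgroupOfEquivOfLe hTS).symm
  have hinvQ : ∀ g : S, orderOf g = 2 → g • a = a → g ∈ Q := fun g hg hga =>
    mem_subgroupOf.mpr (hT.inv_mem _ ⟨g.2, (Subgroup.orderOf_coe g).trans hg, hga⟩)
  have hD : ∀ g : S, g ∈ stabilizer S a ⊓ stabilizer S (t • a) ↔ (g : G) ∈ pair S a b := by
    intro g
    rw [mem_pair, Subgroup.mem_inf, mem_stabilizer_iff, mem_stabilizer_iff, hta]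
    exact ⟨fun h => ⟨g.2, h⟩, fun h => h.2⟩
  have hsetup : Cfsg.IsRankOneSetup S Ω a t Q :=
    { two_transitive := htwo
      mul_self := mul_self_of_orderOf_eq_two ht2
      ne_one := fun e => by rw [e, orderOf_one] at ht2; omega
      not_mem := fun h => hab ((show t • a = a from h).symm.trans hta)
      le := fun g hg => (mem_ptStab.mp (hT.le (mem_subgroupOf.mp hg))).2
      conj_mem := fun g hg x hx => mem_subgroupOf.mpr
        ((Subgroup.mem_normalizer_iff.mp (hT.normal ((hstab g).mp hg)) _).mp (mem_subgroupOf.mp hx))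
      inf_eq_bot := by
        rw [eq_bot_iff]
        rintro g ⟨hg, hgb⟩
        refine Subgroup.mem_bot.mpr (Subtype.ext (hT.free _ (mem_subgroupOf.mp hg) b
          (Set.mem_univ b) hab.symm ?_))
        rw [← hta]
        exact hgb
      sup_eq := by
        refine le_antisymm (sup_le (fun g hg => (mem_ptStab.mp (hT.le (mem_subgroupOf.mp hg))).2)
          inf_le_left) fun g hg => ?_
        have hgb : g • b ≠ a := fun e => hab.symm (MulAction.injective g (e.trans hg.symm))
        obtain ⟨k, hk, hkb⟩ := hT.trans b (Set.mem_univ _) hab.symm _ (Set.mem_univ _) hgb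
        let k' : S := ⟨k, hTS hk⟩
        have hgk : g = k' * (k'⁻¹ * g) := (mul_inv_cancel_left k' g).symm
        rw [hgk]
        have hk1 : k' ∈ stabilizer S a := (mem_ptStab.mp (hT.le hk)).2
        have hk2 : k'⁻¹ * g ∈ stabilizer S a := mul_mem (inv_mem hk1) hg
        refine Subgroup.mul_mem_sup (mem_subgroupOf.mpr hk) ⟨hk2, ?_⟩
        show (k'⁻¹ * g) • (t • a) = t • a
        rw [hta, mul_smul, inv_smul_eq_iff]
        exact hkb.symm
      even_card := by
        obtain ⟨s, hs, hs2, hsa⟩ := hS.exists_inv_at (Set.mem_univ a)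
        exact even_iff_two_dvd.mpr (((Subgroup.orderOf_mk s hs).trans hs2).symm ▸
          Subgroup.orderOf_dvd_natCard Q (hinvQ ⟨s, hs⟩ ((Subgroup.orderOf_mk s hs).trans hs2) hsa))
      odd_card := by
        refine (hS.odd_pair (Set.mem_univ a) (Set.mem_univ b) hab).of_dvd_nat ?_
        exact Subgroup.card_dvd_of_injective
          ((S.subtype.comp (stabilizer S a ⊓ stabilizer S (t • a)).subtype).codRestrict
            (pair S a b) fun d => (hD d).mp d.2)
          fun x y h => Subtype.ext (Subtype.ext (congrArg (fun z : pair S a b => (z : G)) h)) }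
  have h2 : ∃ x y : S, x ≠ 1 ∧ y ≠ 1 ∧ x ≠ y ∧ x * x = 1 ∧ y * y = 1 ∧ x * y = y * x := by
    obtain ⟨s, hs, v, hv, hs2, hv2, hne, hc⟩ := hr
    refine ⟨⟨s, hs⟩, ⟨v, hv⟩, fun e => ?_, fun e => ?_, fun e => hne (congrArg Subtype.val e),
      Subtype.ext (mul_self_of_orderOf_eq_two hs2), Subtype.ext (mul_self_of_orderOf_eq_two hv2),
      Subtype.ext hc.eq⟩
    · rw [show s = 1 from congrArg Subtype.val e, orderOf_one] at hs2; omega
    · rw [show v = 1 from congrArg Subtype.val e, orderOf_one] at hv2; omega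
  obtain ⟨E, hE⟩ := exists_rankOneData hsetup h2 hQ2
  refine ⟨t, Q, E, ht2, hta, hsetup, hQ2, hE, fun g hga ⟨n, hn⟩ => ?_⟩
  -- the kernel is normal of odd index in the stabiliser
  haveI hnorm : (Q.subgroupOf (stabilizer S a)).Normal :=
    ⟨fun x hx k => mem_subgroupOf.mpr (hsetup.conj_mem k k.2 x (mem_subgroupOf.mp hx))⟩
  have hidx : Odd (Q.subgroupOf (stabilizer S a)).index := by
    have h1 := Subgroup.card_mul_index (Q.subgroupOf (stabilizer S a))
    rw [Nat.card_congr (subgroupOfEquivOfLe hsetup.le).toEquiv, H38.card_stab hsetup] at h1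
    rw [Nat.eq_of_mul_eq_mul_left Nat.card_pos h1]
    exact hsetup.odd_card
  set x : stabilizer S a := ⟨g, hga⟩ with hx
  have h1 : (x : stabilizer S a ⧸ Q.subgroupOf (stabilizer S a)) ^
      (Q.subgroupOf (stabilizer S a)).index = 1 := by
    rw [← QuotientGroup.mk_pow]
    exact (QuotientGroup.eq_one_iff _).mpr (Subgroup.pow_index_mem _ x)
  have h2 : (x : stabilizer S a ⧸ Q.subgroupOf (stabilizer S a)) ^ (2 ^ n) = 1 := by
    rw [← QuotientGroup.mk_pow, show x ^ (2 ^ n) = 1 from Subtype.ext hn, QuotientGroup.mk_one]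
  have h3 := pow_gcd_eq_one.mpr ⟨h1, h2⟩
  rw [Nat.Coprime.gcd_eq_one (hidx.coprime_two_right.pow_right n), pow_one,
    QuotientGroup.eq_one_iff, mem_subgroupOf] at h3
  exact h3

end Cfsg.Agent.H4.Asch
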