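import Cfsg.Agent.S1130
import Cfsg.Agent.S1131
import Cfsg.Agent.S1132
import Cfsg.Agent.S1137
import Cfsg.Agent.S1138
import Cfsg.Agent.S1139
import Cfsg.Agent.H91.RankOne.Assembly
import Cfsg.Agent.H99.RankOne.Main

/-!
The data of a rank-one set-up whose kernel is a `2`-group: the involutions of the kernel form a
central subgroup `E` of order `q`, the kernel has order `q`, `q ^ 2` or `q ^ 3`, and the inverted
elements form a cyclic group of order `q - 1`, regular on `E#` and fixed-point-free on the kernel.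
-/

set_option autoImplicit false
set_option linter.style.haveILetI false

namespace Cfsg.Agent.H4.Asch

open MulAction Subgroup
open scoped commutatorElement

universe u v

variable {G : Type u} {Ω : Type v} [Group G] [Finite G] [MulAction G Ω] [FaithfulSMul G Ω] {a : Ω}
  {t : G} {Q : Subgroup G}

/-- The data of a rank-one set-up with `2`-group kernel. -/
structure RankOneData (a : Ω) (t : G) (Q E : Subgroup G) : Prop where
  mem_E : ∀ g : G, g ∈ E ↔ g • a = a ∧ g * g = 1
  E_le : E ≤ Q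
  four_le : 4 ≤ Nat.card E
  central : ∀ e ∈ E, ∀ g ∈ Q, Commute e g
  sq_mem : ∀ g ∈ Q, g * g ∈ E
  comm_mem : ∀ g ∈ Q, ∀ k ∈ Q, ⁅g, k⁆ ∈ E
  card_cases : Nat.card Q = Nat.card E ∨ Nat.card Q = Nat.card E ^ 2 ∨
    Nat.card Q = Nat.card E ^ 3
  card_four : Nat.card E = 4 → Nat.card Q ≠ 16
  torus : ∃ K : Subgroup G, (∀ k ∈ K, k • a = a ∧ k • t • a = t • a ∧ t * k * t⁻¹ = k⁻¹) ∧
    IsCyclic K ∧ Nat.card K + 1 = Nat.card E ∧
    (∀ x ∈ E, ∀ y ∈ E, x ≠ 1 → y ≠ 1 → ∃ k ∈ K, k * x * k⁻¹ = y) ∧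
    ∀ k ∈ K, k ≠ 1 → ∀ g ∈ Q, Commute k g → g = 1

/-- A field automorphism of odd order of a field with four elements is trivial. -/
theorem ringEquiv_eq_refl_of_four {F : Type*} [Field F] [Fintype F] (hF : Fintype.card F = 4)
    (φ : F ≃+* F) (hodd : Odd (orderOf φ)) : φ = RingEquiv.refl F := by
  classical
  haveI : CharP F 2 :=
    charP_of_card_eq_prime_pow (f := 2) (by rw [← Nat.card_eq_fintype_card] at *; simpa using hF)
  have h4 : ∀ x : F, x ^ 4 = x := fun x => hF ▸ FiniteField.pow_card x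
  -- two different points outside the prime field are exchanged
  have hsq : φ * φ = 1 := by
    ext x
    show φ (φ x) = x
    by_cases hx0 : x = 0
    · rw [hx0, map_zero, map_zero]
    by_cases hx1 : x = 1
    · rw [hx1, map_one, map_one]
    -- `x` is a root of `X² + X + 1`
    have hroot : ∀ y : F, y ≠ 0 → y ≠ 1 → y * y + y + 1 = 0 := fun y hy0 hy1 => by
      have h : (y - 1) * y * (y * y + y + 1) = 0 := by linear_combination h4 y
      rcases mul_eq_zero.mp h with h | h
      · rcases mul_eq_zero.mp h with h | h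
        · exact absurd (sub_eq_zero.mp h) hy1
        · exact absurd h hy0
      · exact h
    have hφx : φ x = x ∨ φ x = x * x := by
      have h1 := hroot x hx0 hx1
      have h2 := hroot (φ x) ((map_ne_zero_iff φ φ.injective).mpr hx0)
        (fun h => hx1 (φ.injective (h.trans (map_one φ).symm)))
      have h : (φ x - x) * (φ x + x + 1) = 0 := by linear_combination h2 - h1
      rcases mul_eq_zero.mp h with h | h
      · exact Or.inl (sub_eq_zero.mp h)
      · exact Or.inr (by linear_combination h - h1)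
    rcases hφx with h | h
    · rw [h, h]
    · rw [h, map_mul, h]
      linear_combination h4 x
  have hdvd : orderOf φ ∣ 2 := orderOf_dvd_of_pow_eq_one (by rw [sq, hsq])
  rcases (Nat.dvd_prime Nat.prime_two).mp hdvd with h | h
  · exact (orderOf_eq_one_iff.mp h)
  · exact absurd (h ▸ hodd) (by decide)

/-- The rank-one data. -/
theorem exists_rankOneData (hS : Cfsg.IsRankOneSetup G Ω a t Q)
    (h2 : ∃ x y : G, x ≠ 1 ∧ y ≠ 1 ∧ x ≠ y ∧ x * x = 1 ∧ y * y = 1 ∧ x * y = y * x)
    (hQ2 : IsPGroup 2 Q) : ∃ E : Subgroup G, RankOneData a t Q E := by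
  classical
  haveI : Fact (Nat.Prime 2) := ⟨Nat.prime_two⟩
  obtain ⟨hcent, hclosed⟩ := S1130.result hS h2
  let E : Subgroup G :=
    { carrier := {g | g • a = a ∧ g * g = 1}
      one_mem' := ⟨one_smul G a, one_mul 1⟩
      mul_mem' := by
        rintro x y ⟨hx, hxx⟩ ⟨hy, hyy⟩
        by_cases hx1 : x = 1
        · rw [hx1, one_mul]; exact ⟨hy, hyy⟩
        by_cases hy1 : y = 1
        · rw [hy1, mul_one]; exact ⟨hx, hxx⟩
        refine ⟨by rw [mul_smul, hy, hx], ?_⟩
        rcases hclosed x ⟨hx, hx1, hxx⟩ y ⟨hy, hy1, hyy⟩ with h | h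
        · rw [h, one_mul]
        · exact h.2.2
      inv_mem' := by
        rintro x ⟨hx, hxx⟩
        exact ⟨inv_smul_eq_iff.mpr hx.symm,
          by rw [← mul_inv_rev, hxx, inv_one]⟩ }
  have hmem : ∀ g : G, g ∈ E ↔ g • a = a ∧ g * g = 1 := fun g => Iff.rfl
  have hinvol : ∀ g ∈ E, g ≠ 1 → g ∈ Cfsg.involutionsIn (stabilizer G a : Set G) :=
    fun g hg h1 => ⟨hg.1, h1, hg.2⟩
  have hEQ : E ≤ Q := fun g hg => by
    by_cases h1 : g = 1
    · rw [h1]; exact one_mem Q
    · exact (hcent g (hinvol g hg h1)).1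
  have hcomm : ∀ e ∈ E, ∀ g ∈ Q, Commute e g := fun e he g hg => by
    by_cases h1 : e = 1
    · rw [h1]; exact Commute.one_left g
    · exact (hcent e (hinvol e he h1)).2 g hg
  have hcardE : Nat.card E = Nat.card (Cfsg.involutionsIn (stabilizer G a : Set G)) + 1 := by
    have hins : (E : Set G) = insert 1 (Cfsg.involutionsIn (stabilizer G a : Set G)) := by
      ext g
      refine ⟨fun hg => ?_, ?_⟩
      · by_cases h1 : g = 1
        · exact Or.inl h1
        · exact Or.inr (hinvol g hg h1)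
      · rintro (rfl | hg)
        · exact one_mem E
        · exact ⟨hg.1, hg.2.2⟩
    change Nat.card (E : Set G) = _
    rw [Nat.card_coe_set_eq, hins, Nat.card_coe_set_eq,
      Set.ncard_insert_of_notMem (fun h => h.2.1 rfl)]
  obtain ⟨K, hK, hKcyc, -⟩ := S1131.result hS h2
  have hKmem : ∀ k : G, k ∈ K ↔ k ∈ Cfsg.invertedBy (stabilizer G a ⊓ stabilizer G (t • a)) t :=
    fun k => by rw [← hK]; rfl
  have hKcard : Nat.card K + 1 = Nat.card E := by
    rw [hcardE, ← (S1122.result hS).1]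
    exact congrArg (fun s : Set G => Nat.card s + 1) hK
  obtain ⟨x, y, hxQ, hyQ, hx1, hy1, hxy, hxx, hyy, hxyc⟩ := H91.RankOne.exists_four_in_stab hS h2
  have hfour : 4 ≤ Nat.card E := by
    have hsub : ({1, x, y, x * y} : Finset G).card = 4 := by
      rw [Finset.card_insert_of_notMem, Finset.card_insert_of_notMem, Finset.card_pair]
      · exact fun h => hx1 (mul_eq_right.mp h.symm)
      · simp only [Finset.mem_insert, Finset.mem_singleton, not_or]
        exact ⟨hxy, fun h => hy1 (mul_eq_left.mp h.symm)⟩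
      · simp only [Finset.mem_insert, Finset.mem_singleton, not_or]
        refine ⟨hx1.symm, hy1.symm, fun h => hxy ?_⟩
        rw [← inv_eq_of_mul_eq_one_right hxx]
        exact inv_eq_of_mul_eq_one_right h.symm
    rw [← hsub, ← Nat.card_eq_finsetCard]
    refine Nat.card_mono (Set.toFinite (E : Set G)) fun g hg => ?_
    simp only [SetLike.mem_coe, Finset.mem_insert, Finset.mem_singleton] at hg
    rcases hg with rfl | rfl | rfl | rfl
    · exact one_mem E
    · exact ⟨hS.le hxQ, hxx⟩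
    · exact ⟨hS.le hyQ, hyy⟩
    · exact E.mul_mem ⟨hS.le hxQ, hxx⟩ ⟨hS.le hyQ, hyy⟩
  have hsuff : (∀ g ∈ Q, g * g ∈ E) → (∀ g ∈ Q, ∀ k ∈ Q, ⁅g, k⁆ ∈ E) →
      (Nat.card Q = Nat.card E ∨ Nat.card Q = Nat.card E ^ 2 ∨ Nat.card Q = Nat.card E ^ 3) →
      (Nat.card E = 4 → Nat.card Q ≠ 16) → RankOneData a t Q E := fun h1 h2' h3 h4 =>
    ⟨hmem, hEQ, hfour, hcomm, h1, h2', h3, h4, K,
      fun k hk => ⟨((hKmem k).mp hk).1.1, ((hKmem k).mp hk).1.2, ((hKmem k).mp hk).2⟩,
      hKcyc, hKcard, fun u hu w hw hu1 hw1 => by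
        obtain ⟨k, hk, hk'⟩ := (S1122.result hS).2 u (hinvol u hu hu1) w (hinvol w hw hw1)
        exact ⟨k⁻¹, inv_mem ((hKmem k).mpr hk), by rwa [inv_inv]⟩,
      fun k hk hk1 g hg hc => by
        have h := S1128.result hS h2 k ((hKmem k).mp hk) hk1
        exact Subgroup.mem_bot.mp (h ▸ ⟨hg, mem_centralizer_singleton_iff.mpr hc.symm.eq⟩)⟩
  refine ⟨E, ?_⟩
  let S : Sylow 2 Q := IsPGroup.toSylow (P := ⊤)
    (IsPGroup.of_equiv hQ2 Subgroup.topEquiv.symm) (by simp [Nat.Prime.not_dvd_one Nat.prime_two])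
  rcases S1132.result hS h2 S with hab | hsuz
  · -- abelian kernel
    have hc : ∀ g ∈ Q, ∀ k ∈ Q, Commute g k := fun g hg k hk => by
      have h := hab.is_comm.comm ⟨⟨g, hg⟩, mem_top _⟩ ⟨⟨k, hk⟩, mem_top _⟩
      exact congrArg (fun z : (S : Subgroup Q) => ((z : Q) : G)) h
    have hcomm1 : ∀ g ∈ Q, ∀ k ∈ Q, ⁅g, k⁆ ∈ E := fun g hg k hk => by
      rw [commutatorElement_eq_one_iff_commute.mpr (hc g hg k hk)]; exact one_mem E
    set L : Subgroup G := Subgroup.closure ((Q : Set G) ∪ {t}) with hL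
    have hQL : Q ≤ L := fun g hg => subset_closure (Or.inl hg)
    have htL : t ∈ L := subset_closure (Or.inr rfl)
    have hS' := H91.RankOne.sub hS hQL htL
    have h2' : ∃ x y : L, x ≠ 1 ∧ y ≠ 1 ∧ x ≠ y ∧ x * x = 1 ∧ y * y = 1 ∧ x * y = y * x :=
      ⟨⟨x, hQL hxQ⟩, ⟨y, hQL hyQ⟩, fun h => hx1 (congrArg Subtype.val h),
        fun h => hy1 (congrArg Subtype.val h), fun h => hxy (congrArg Subtype.val h),
        Subtype.ext hxx, Subtype.ext hyy, Subtype.ext hxyc⟩
    haveI : FaithfulSMul L Ω := ⟨fun h => Subtype.ext (eq_of_smul_eq_smul h)⟩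
    have hcardQ : Nat.card (Q.subgroupOf L) = Nat.card Q :=
      Nat.card_congr (subgroupOfEquivOfLe hQL).toEquiv
    by_cases hV : ∀ d ∈ stabilizer L a ⊓ stabilizer L ((⟨t, htL⟩ : L) • a),
        d * ⟨t, htL⟩ = ⟨t, htL⟩ * d → d = 1
    · -- Zassenhaus: the kernel is `E`
      have hZ := H91.RankOne.zassenhaus hS' h2' hV
      haveI : Finite Ω := H38.finite_pts hS
      have hker : H28.Zass.IsKer (G := L) a (Q.subgroupOf L) :=
        ⟨hS'.le, (H38.card_pts hS').symm, fun u hu hu1 c hc' => H38.Q_fix_only hS' hu hu1 hc'⟩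
      have hle : Nat.card ↥(stabilizer L a ⊓ stabilizer L ((⟨t, htL⟩ : L) • a)) ≤ Nat.card K := by
        refine Nat.card_le_card_of_injective (fun d => ⟨((d : L) : G), (hKmem _).mpr
          ⟨⟨d.2.1, d.2.2⟩, congrArg Subtype.val (H91.RankOne.inverted hS' hV d d.2)⟩⟩)
          fun d d' h => Subtype.ext (Subtype.ext (congrArg (fun z : K => (z : G)) h))
      have hQE : Q = E := by
        refine (Subgroup.eq_of_le_of_card_ge hEQ ?_).symm
        rcases H28.Zass.kernel_cases hker hZ (H38.t_smul_ne hS').symm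
          (fun u hu w hw => Subtype.ext (hc u hu w hw)) with he | he
        · omega
        · exfalso
          have h1 := hS.even_card
          rw [← hcardQ, ← he] at h1
          exact absurd h1 (by simp [parity_simps])
      refine hsuff (fun g hg => hQE ▸ mul_mem hg hg) hcomm1 (Or.inl (by rw [hQE])) fun h => ?_
      rw [hQE, h]; norm_num
    · push Not at hV
      obtain ⟨d, hd, hdc, hd1⟩ := hV
      have hgen : Subgroup.closure ((Q.subgroupOf L : Set L) ∪ {⟨t, htL⟩}) = ⊤ := by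
        rw [eq_top_iff]
        intro z _
        refine (Subgroup.mem_map_iff_mem L.subtype_injective).mp ?_
        rw [MonoidHom.map_closure]
        refine (Subgroup.closure_mono ?_) z.2
        rintro w (hw | rfl)
        · exact ⟨⟨w, hQL hw⟩, Or.inl hw, rfl⟩
        · exact ⟨⟨w, htL⟩, Or.inr rfl, rfl⟩
      obtain ⟨-, hexp, hcube⟩ := H99.RankOne.structure_Q hS' h2' hgen fun h => hd1
        (Subgroup.mem_bot.mp (h ▸ ⟨hd, mem_centralizer_singleton_iff.mpr hdc⟩))
      have heq : Nat.card (Cfsg.involutionsIn (stabilizer L a : Set L)) =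
          Nat.card (Cfsg.involutionsIn (stabilizer G a : Set G)) := by
        refine Nat.card_congr
          { toFun := fun s => ⟨((s : L) : G), s.2.1, fun h => s.2.2.1 (Subtype.ext h),
              congrArg Subtype.val s.2.2.2⟩
            invFun := fun s => ⟨⟨s.1, hQL (hcent s.1 s.2).1⟩, s.2.1,
              fun h => s.2.2.1 (congrArg Subtype.val h), Subtype.ext s.2.2.2⟩
            left_inv := fun s => rfl
            right_inv := fun s => rfl }
      rw [hcardQ, heq, ← hcardE] at hcube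
      refine hsuff (fun g hg => ⟨by rw [mul_smul, hS.le hg, hS.le hg],
        congrArg Subtype.val (hexp ⟨g, hQL hg⟩ hg)⟩) hcomm1 (Or.inr (Or.inr hcube)) fun h => ?_
      rw [hcube, h]; norm_num
  · -- Suzuki kernel
    let e : (S : Subgroup Q) ≃* Q := Subgroup.topEquiv
    obtain ⟨hsq, hcm, hcard, -⟩ := S1138.result hsuz
    have hz := (S1137.result hsuz).1
    have hcentE : ∀ z : (S : Subgroup Q), z ∈ Subgroup.center (S : Subgroup Q) → ((e z : Q) : G) ∈ E := by
      intro z hz'
      by_cases h1 : z = 1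
      · rw [h1, map_one]; exact one_mem E
      · exact ⟨hS.le (e z).2, by
          simpa using congrArg (fun w => ((e w : Q) : G)) ((hz z).mpr ⟨hz', h1⟩).2⟩
    have hsqE : ∀ g ∈ Q, g * g ∈ E := fun g hg => by
      simpa using hcentE _ (hsq (e.symm ⟨g, hg⟩))
    have hcmE : ∀ g ∈ Q, ∀ k ∈ Q, ⁅g, k⁆ ∈ E := fun g hg k hk => by
      simpa [commutatorElement_def] using
        hcentE _ (hcm (e.symm ⟨g⁻¹, inv_mem hg⟩) (e.symm ⟨k⁻¹, inv_mem hk⟩))
    have hZcard : Nat.card (Subgroup.center (S : Subgroup Q)) = Nat.card E := by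
      refine Nat.card_congr (Equiv.ofBijective (fun z => (⟨_, hcentE z.1 z.2⟩ : E))
        ⟨fun z z' h => ?_, fun w => ?_⟩)
      · exact Subtype.ext (e.injective (Subtype.ext (congrArg (fun v : E => (v : G)) h)))
      · refine ⟨⟨e.symm ⟨w, hEQ w.2⟩, Subgroup.mem_center_iff.mpr fun g => ?_⟩, Subtype.ext ?_⟩
        · refine e.injective (Subtype.ext ?_)
          simpa using (hcomm w w.2 (e g) (e g).2).symm.eq
        · simp
    have hScard : Nat.card (S : Subgroup Q) = Nat.card Q := Nat.card_congr e.toEquiv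
    rw [hZcard, hScard] at hcard
    refine hsuff hsqE hcmE (Or.inr hcard) fun h4 h16 => ?_
    obtain ⟨F, i1, i2, φ, hF, hφ, hodd, -⟩ := S1139.result hsuz
      (by rw [hScard, hZcard, h16, h4]; norm_num)
    exact hφ (ringEquiv_eq_refl_of_four (hF.trans (hZcard.trans h4)) φ hodd)

end Cfsg.Agent.H4.Asch
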